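import Groth.Agent.Lib.StAlg16.DiagIff
import Groth.Agent.Lib.StAlg.DiagApps
import Groth.Agent.Lib.AlgSpace.LqfScheme
import Groth.Agent.Lib.SchDesc12.LQF
import Groth.Agent.Lib.EtBase.Unramified
import Groth.Agent.Lib.NormEt14.Chart

/-! The diagonal of a stack with an etale chart; quasi-affine diagonals of DM stacks. -/

universe u

open CategoryTheory CategoryTheory.Functor CategoryTheory.Limits AlgebraicGeometry Opposite

set_option linter.style.haveILetI false
set_option linter.unusedSectionVars false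
set_option backward.isDefEq.respectTransparency false
set_option backward.isDefEq.respectTransparency.types false

namespace Groth.Agent.DMDiag14

open Groth.Agent.FC16 Groth.Agent.StAlg

variable {S : Scheme.{u}} {𝒳 : AlgSt.Cat S}

theorem diag_toSelf_of_atlas {K : Precoverage Scheme.{u}} {R : MorphismProperty Scheme.{u}} [AlgSpace.EtaleLocal R]
    (hR : AlgSp.IsLocalOnBase AlgSp.IsFppfCover (AlgSp.LocP (S := S) R))
    (hd : ∀ ⦃X : AlgSp.Sp S⦄, AlgSp.IsAlgSpace X → ∀ ⦃U : Over S⦄ (a : X ⟶ (AlgSp.yon S).obj U),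
      AlgSp.LocP R (pullback.diagonal a))
    (h𝒳 : AlgSt.IsAlgStack K 𝒳) {U : Over S} {x : FibCat.overCat U ⥤ᵇ 𝒳}
    (hw₁ : AlgSt.RepByAlgSpWith (AlgSp.LocP @Flat) x)
    (hw₂ : AlgSt.RepByAlgSpWith (AlgSp.LocP @LocallyOfFinitePresentation) x)
    (hw₃ : AlgSt.RepByAlgSpWith AlgSp.IsSurjectiveMor x)
    (hw₄ : AlgSt.RepByAlgSpWith (AlgSp.LocP R) x) :
    AlgSt.RepByAlgSpWith (AlgSp.LocP R) (FibCat.diag (FibCat.toSelf 𝒳)) := by
  have hg := h𝒳.isStack.1
  have hz := isFibGrpd_of_rep (rep_overCat U)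
  let t := FibCat.toSelf 𝒳
  refine with_of_fpFst_cover (z := pair (Iso.refl (BasedFunctor.comp x t)) (Iso.refl (BasedFunctor.comp x t)))
    pbP_locP hR hg (fp_isFibGrpd hg hg selfOver_isFibGrpd _ _)
    (fp_isFibGrpd hz hz selfOver_isFibGrpd _ _) h𝒳.diag
    (with_fp_map_gen goodP_locP hg selfOver_isFibGrpd t t hz hz hw₁ hw₁)
    (with_fp_map_gen goodP_locP hg selfOver_isFibGrpd t t hz hz hw₂ hw₂)
    (with_fp_map_gen goodP_surjective hg selfOver_isFibGrpd t t hz hz hw₃ hw₃)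
    ((with_cmp_iff (wrIso (FibCat.fpIso x x) t) (fun _ => rfl)).2 ?_)
  have hk : AlgSt.RepByAlgSp1 (BasedFunctor.comp x t) := rep1_of_rep (rep_overCat U) rep_selfOver _
  exact with_of_comp (g := FibCat.fpFst (BasedFunctor.comp x t) (BasedFunctor.comp x t)) goodP_locP
    (fp_isFibGrpd hz hz hg _ _) (fp_isFibGrpd hz hz selfOver_isFibGrpd _ _) hz
    (with_of_iso (Iso.refl _) (with_fpFst x hw₄))
    (with_diag_of_rep1 pbP_locP (repByAlgSp1_iff.1 (rep1_fpFst _ hk)) fun _ hX _ a _ => hd hX a)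

/-- DM stacks for any topology have unramified diagonal over the base -/
theorem isDMOver_of_isDM {K : Precoverage Scheme.{u}} (h𝒳 : AlgSt.IsDM K 𝒳) : AlgSt.IsDMOver 𝒳 := by
  obtain ⟨h, U, x, hx, hxs⟩ := h𝒳
  have he : AlgSt.RepByAlgSpWith (AlgSp.LocP @Etale) x :=
    repByAlgSpWith_mono (fun _ _ _ _ ha => AlgSpDescent.locP_etale_of_isEtaleMor ha) hx
  exact diag_toSelf_of_atlas isLocalOnBase_fppf_locP_unramified
    (fun _ hX _ a => locP_lftUnram_diagonal hX a) h
    (with_locP_mono (fun _ _ g (_ : Etale g) => (inferInstance : Flat g)) he)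
    (with_locP_mono (fun _ _ g (_ : Etale g) => (inferInstance : LocallyOfFinitePresentation g)) he) hxs
    (with_locP_mono (fun _ _ g (_ : Etale g) => ⟨inferInstance, inferInstance⟩) he)

lemma lftUnram_le_lqf : (@LocallyOfFiniteType.{u} ⊓ @FormallyUnramified.{u} : MorphismProperty Scheme.{u}) ≤
    (@LocallyQuasiFinite.{u} ⊓ @LocallyOfFiniteType.{u} : MorphismProperty Scheme.{u}) := fun _ _ g ⟨h₁, h₂⟩ =>
  haveI := h₁; haveI := h₂; ⟨EtBase.locallyQuasiFinite_of_formallyUnramified g, h₁⟩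

/-- separated quasi-finite maps of spaces to schemes are quasi-affine -/
theorem isQuasiAffineMor_of_lqf {X Y : AlgSp.Sp S} (hX : AlgSp.IsAlgSpace X) (hY : AlgSp.IsAlgSpace Y)
    {f : X ⟶ Y} (hqf : AlgSp.LocP (@LocallyQuasiFinite ⊓ @LocallyOfFiniteType) f)
    (hsep : AlgSp.IsSeparatedMor f) (hqc : AlgSp.IsQuasiCompactMor f) : AlgSp.IsQuasiAffineMor f := by
  intro Z hZ g
  have hr := AlgSpace.representable_of_lqf_separated hX hY f hsep hqf
  have sq := hr.isPullback g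
  refine ⟨hr.pullback g, hr.snd g, hr.fst g, sq, ?_⟩
  have : IsAffine Z.left := hZ
  have hqf' := (AlgSp.repWith_yon_map_iff (@LocallyQuasiFinite ⊓ @LocallyOfFiniteType) (hr.snd g)).1
    (AlgSpace.repWith_of_isPullback sq (AlgSpace.repWith_of_locP hY hr hqf))
  have : LocallyQuasiFinite (hr.snd g).left := hqf'.1
  have : LocallyOfFiniteType (hr.snd g).left := hqf'.2
  have : IsSeparated (hr.snd g).left :=
    (AlgSp.isSeparatedMor_yon_map_iff _).1 (AlgSpace.isSeparatedMor_of_isPullback sq hsep)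
  have : QuasiCompact (hr.snd g).left :=
    NormEt14.quasiCompact_left_of_isQuasiCompactMor (AlgSpace.isQuasiCompactMor_of_isPullback sq hqc)
  have : CompactSpace ↥(hr.pullback g).left :=
    QuasiCompact.compactSpace_of_compactSpace (hr.snd g).left
  exact SchDesc12.isQuasiAffine_of_lqf (hr.snd g).left

theorem quasiAffine_diag {K : Precoverage Scheme.{u}} (h𝒳 : AlgSt.IsAlgStack K 𝒳) (hdm : AlgSt.IsDMOver 𝒳)
    (hsep : AlgSt.RepByAlgSpWith AlgSp.IsSeparatedMor (FibCat.diag (FibCat.toSelf 𝒳)))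
    (hqc : AlgSt.RepByAlgSpWith AlgSp.IsQuasiCompactMor (FibCat.diag (FibCat.toSelf 𝒳))) :
    AlgSt.RepByAlgSpWith AlgSp.IsQuasiAffineMor (FibCat.diag (FibCat.toSelf 𝒳)) := by
  have hg := h𝒳.isStack.1
  have h2 := fp_isFibGrpd hg hg (selfOver_isFibGrpd (C := Over S)) (FibCat.toSelf 𝒳) (FibCat.toSelf 𝒳)
  have h := StAlg16.with_inf (preIso_of_pullback pbP_locP)
    (preIso_of_pullback (pbP_isSeparatedMor.inf pbP_isQuasiCompactMor)) hg h2 hdm
    (StAlg16.with_inf (preIso_of_pullback pbP_isSeparatedMor) (preIso_of_pullback pbP_isQuasiCompactMor)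
      hg h2 hsep hqc)
  exact repByAlgSpWith_mono (fun _ hF V _ ha => isQuasiAffineMor_of_lqf hF (AlgSp.IsAlgSpace.yon_obj V)
    (locP_mono lftUnram_le_lqf ha.1) ha.2.1 ha.2.2) h

end Groth.Agent.DMDiag14
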